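import Cfsg.Prelude.Def_Spor_Ly

/-!
# The generators of the presented Lyons group as words in five of them (owner: helper25)
-/

set_option autoImplicit false
set_option maxRecDepth 20000

namespace CfsgLib.Sporadic.LyGroup

open Cfsg

/-- The word of a generator in the letters of `a, b, c, d, z` and their inverses. -/
def defW : Spor.Ly.Gen → List ℕ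
  | .a => [0]
  | .b => [2]
  | .c => [4]
  | .d => [6]
  | .z => [8]
  | .e => [3, 3, 1, 5, 0, 4, 1, 4, 0, 6, 4, 2, 0, 3, 6, 4, 6]
  | .a1 => [0]
  | .a2 => [2, 0, 3]
  | .a3 => [2, 2, 0, 3, 3]
  | .a4 => [3, 3, 0, 2, 2]
  | .c1 => [4]
  | .c2 => [1, 4, 0]
  | .c3 => [3, 4, 2]
  | .c4 => [2, 4, 3]
  | .c5 => [5, 1, 5, 0, 4, 1, 4, 0]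
  | .u => [0, 0]
  | .x23 => [6]
  | .x24 => [7]
  | .x25 => [2, 2, 1, 3, 1, 2, 2, 5, 0, 4, 1, 5, 6, 5, 2, 2, 1, 4, 2]
  | .x29 => [0, 2, 1, 2, 2, 1, 2, 2, 5, 0, 4, 2, 4, 3, 6, 4, 3, 3, 6, 4, 2, 4]
  | .x47 => [5, 7, 1, 5, 1, 2, 5, 7]
  | .x96 => [2, 6]
  | .x129 => [7, 3]
  | .x162 => [1, 3, 1, 2, 5, 3, 0, 5, 2, 0]
  | .x163 => [3, 3, 0, 4, 1, 2, 4, 2]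
  | .x164 => [1, 3, 1, 4, 0, 2, 0]
  | .x165 => [3, 1, 2, 4, 3, 0, 2]
  | .x166 => [2, 2, 1, 3, 4, 2, 0, 4, 3, 3, 5]
  | .x167 => [1, 1, 1]
  | .x168 => [2, 1, 3, 1, 1]
  | .x169 => [0, 2, 2, 0, 3, 3, 1]
  | .x364 => [1, 6, 3, 5, 1, 2, 5, 7, 2, 5, 3, 1, 5, 0, 3, 0, 2, 0, 3]
  | .x365 => [0, 3, 3, 1, 4, 2, 5, 2, 1, 5, 5, 6, 4, 0, 4, 1, 4, 3, 7]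
  | .x366 => [2, 0, 3, 1, 3, 3, 1, 3, 4, 2, 2, 4, 2, 6, 4, 3, 3, 6, 4, 2, 4]
  | .x367 => [5, 3, 5, 7, 2, 2, 5, 7, 3, 5, 3, 3, 5, 2, 0, 2, 2, 0, 2, 1, 3]
  | .x368 => [1, 5, 7, 0, 5, 3, 0, 5, 7, 1, 5, 0, 4, 3, 3, 5, 3, 1, 3, 3]
  | .x369 => [1, 5, 7, 2, 1, 3, 5, 7, 2, 1, 3, 5, 3, 0, 3, 3, 0, 3]
  | .x370 => [7, 0, 4, 2, 4, 1, 5, 7, 0, 3, 1, 4, 1, 3, 3, 1, 2, 1]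
  | .x371 => [5, 1, 4, 2, 5, 7, 4, 1, 4, 0, 4, 3, 1, 3, 1, 2]

/-- The defining relator of each further generator, by position. -/
def defRels : List (Spor.Ly.Gen × ℕ) := [(.c1, 5), (.c2, 6), (.c3, 7), (.c4, 8), (.c5, 9), (.e, 28), (.a1, 44), (.a2, 45), (.a3, 46), (.a4, 47), (.u, 48), (.x23, 49), (.x24, 50), (.x25, 51), (.x29, 52), (.x47, 53), (.x96, 54), (.x129, 55), (.x162, 56), (.x163, 57), (.x164, 58), (.x165, 59), (.x166, 60), (.x167, 61), (.x168, 62), (.x169, 63), (.x364, 64), (.x365, 65), (.x366, 66), (.x367, 67), (.x368, 68), (.x369, 69), (.x370, 70), (.x371, 71)]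

/-- The relators in five letters. -/
def relWords : List (List ℕ) := [
  [0, 0, 0, 0, 0, 0, 0, 0],
  [2, 2, 2, 2, 2],
  [0, 2, 0, 2, 0, 2, 0, 2],
  [1, 1, 3, 0, 0, 2],
  [1, 3, 0, 2, 1, 3, 0, 2, 1, 3, 0, 2],
  [4, 5],
  [1, 4, 0, 1, 5, 0],
  [3, 4, 2, 3, 5, 2],
  [2, 4, 3, 2, 5, 3],
  [5, 1, 5, 0, 4, 1, 4, 0, 1, 5, 0, 5, 1, 4, 0, 4],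
  [4, 4, 4, 4, 4],
  [5, 1, 5, 0, 4, 1, 4, 0, 5, 1, 5, 0, 4, 1, 4, 0, 5, 1, 5, 0, 4, 1, 4, 0, 5, 1, 5, 0, 4, 1, 4, 0, 5, 1, 5, 0, 4, 1, 4, 0],
  [5, 1, 5, 0, 5, 1, 4, 0, 4, 4, 5, 1, 5, 0, 4, 1, 4, 0],
  [1, 5, 0, 1, 5, 0, 5, 1, 4, 0, 4, 1, 4, 0, 5, 1, 5, 0, 4, 1, 4, 0],
  [3, 5, 2, 1, 5, 0, 5, 1, 4, 0, 4, 3, 4, 2, 5, 1, 5, 0, 4, 1, 4, 0],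
  [2, 5, 3, 1, 5, 0, 5, 1, 4, 0, 4, 2, 4, 3, 5, 1, 5, 0, 4, 1, 4, 0],
  [5, 3, 5, 2, 4, 3, 4, 2, 5, 1, 5, 0, 4, 1, 4, 0, 5, 1, 5, 0, 4, 1, 4, 0],
  [5, 2, 5, 3, 4, 2, 4, 3, 1, 5, 0, 5, 1, 4, 0, 4, 1, 5, 0, 5, 1, 4, 0, 4],
  [1, 5, 0, 3, 5, 2, 1, 4, 0, 3, 4, 2, 5, 1, 5, 0, 4, 1, 4, 0],
  [1, 5, 0, 2, 5, 3, 1, 4, 0, 2, 4, 3],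
  [3, 5, 2, 2, 5, 3, 3, 4, 2, 2, 4, 3, 5, 1, 5, 0, 4, 1, 4, 0],
  [1, 1, 4, 0, 0, 4, 4],
  [1, 3, 4, 2, 0, 2, 5, 3, 5, 3, 4, 2, 3, 4, 2],
  [1, 2, 4, 3, 0, 2, 5, 3, 5, 2, 5, 3, 3, 4, 2, 1, 4, 0, 5],
  [1, 5, 1, 5, 0, 4, 1, 4, 0, 0, 1, 5, 0, 5, 1, 4, 0, 4, 1, 5, 0, 5, 1, 4, 0, 4],
  [3, 1, 4, 0, 2, 2, 4, 3, 4, 2, 4, 3, 3, 5, 2, 1, 5, 0],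
  [3, 3, 4, 2, 2, 3, 4, 2, 3, 4, 2, 2, 5, 3, 5, 5],
  [3, 5, 1, 5, 0, 4, 1, 4, 0, 2, 1, 5, 0, 5, 1, 4, 0, 4],
  [3, 3, 1, 5, 0, 4, 1, 4, 0, 6, 4, 2, 0, 3, 6, 4, 6, 7, 5, 7, 2, 1, 3, 5, 7, 1, 5, 0, 5, 1, 4, 0, 2, 2],
  [3, 3, 1, 5, 0, 4, 1, 4, 0, 6, 4, 2, 0, 3, 6, 4, 6, 3, 3, 1, 5, 0, 4, 1, 4, 0, 6, 4, 2, 0, 3, 6, 4, 6],
  [7, 5, 7, 2, 1, 3, 5, 7, 1, 5, 0, 5, 1, 4, 0, 2, 2, 4, 3, 3, 1, 5, 0, 4, 1, 4, 0, 6, 4, 2, 0, 3, 6, 4, 6, 4, 3, 3, 5, 2, 3],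
  [7, 5, 7, 2, 1, 3, 5, 7, 1, 5, 0, 5, 1, 4, 0, 2, 2, 3, 4, 2, 3, 3, 1, 5, 0, 4, 1, 4, 0, 6, 4, 2, 0, 3, 6, 4, 6, 0, 2, 4, 3, 4, 1, 5, 0, 1, 3, 3],
  [7, 5, 7, 2, 1, 3, 5, 7, 1, 5, 0, 5, 1, 4, 0, 2, 2, 2, 4, 3, 3, 3, 1, 5, 0, 4, 1, 4, 0, 6, 4, 2, 0, 3, 6, 4, 6, 2, 5, 3, 3, 4, 2, 3, 3],
  [7, 5, 7, 2, 1, 3, 5, 7, 1, 5, 0, 5, 1, 4, 0, 2, 2, 5, 1, 5, 0, 4, 1, 4, 0, 3, 3, 1, 5, 0, 4, 1, 4, 0, 6, 4, 2, 0, 3, 6, 4, 6, 2, 4, 3, 5, 3, 4, 2, 5],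
  [3, 3, 1, 5, 0, 4, 1, 4, 0, 6, 4, 2, 0, 3, 6, 4, 6, 0, 0, 3, 3, 1, 5, 0, 4, 1, 4, 0, 6, 4, 2, 0, 3, 6, 4, 6, 2, 4, 3, 1, 5, 0, 5, 1, 4, 0, 4, 5, 1, 2, 1, 3, 3, 1],
  [7, 5, 7, 2, 1, 3, 5, 7, 1, 5, 0, 5, 1, 4, 0, 2, 2, 2, 3, 3, 1, 5, 0, 4, 1, 4, 0, 6, 4, 2, 0, 3, 6, 4, 6, 2, 4, 3, 2, 4, 3, 3, 4, 2, 5],
  [3, 3, 1, 5, 0, 4, 1, 4, 0, 6, 4, 2, 0, 3, 6, 4, 6, 0, 2, 2, 0, 3, 0, 3, 3, 1, 5, 0, 4, 1, 4, 0, 6, 4, 2, 0, 3, 6, 4, 6, 2, 4, 3, 1, 5, 0, 5, 1, 4, 0, 4, 5, 1, 1],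
  [3, 3, 1, 5, 0, 4, 1, 4, 0, 6, 4, 2, 0, 3, 6, 4, 6, 1, 4, 0, 3, 3, 1, 5, 0, 4, 1, 4, 0, 6, 4, 2, 0, 3, 6, 4, 6, 1, 5, 0, 3, 3, 1, 5, 0, 4, 1, 4, 0, 6, 4, 2, 0, 3, 6, 4, 6, 1, 4, 0, 2, 5, 3, 0, 3, 4, 2, 0, 0, 0],
  [6, 7, 5, 7, 2, 1, 3, 5, 7, 1, 5, 0, 5, 1, 4, 0, 2, 2, 3, 1, 4, 0, 1, 7, 5, 7, 2, 1, 3, 5, 7, 1, 5, 0, 5, 1, 4, 0, 2, 2, 1, 7, 5, 7, 2, 1, 3, 5, 7, 1, 5, 0, 5, 1, 4, 0, 2, 2, 1, 5, 1, 5, 0, 4, 1, 4, 0, 2, 4, 3, 4, 2, 0, 3, 3, 1],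
  [6, 6, 1, 1, 1, 1],
  [3, 7, 2, 6],
  [7, 0, 6, 1, 1, 1],
  [6, 5, 1, 5, 0, 4, 1, 4, 0, 6, 5, 1, 5, 0, 4, 1, 4, 0, 6, 5, 1, 5, 0, 4, 1, 4, 0, 6, 5, 1, 5, 0, 4, 1, 4, 0, 6, 5, 1, 5, 0, 4, 1, 4, 0],
  [6, 5, 1, 5, 0, 4, 1, 4, 0, 6, 1, 5, 0, 5, 1, 4, 0, 4, 6, 5, 1, 5, 0, 4, 1, 4, 0, 1, 1],
  [0, 1],
  [2, 0, 3, 2, 1, 3],
  [2, 2, 0, 3, 3, 2, 2, 1, 3, 3],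
  [3, 3, 0, 2, 2, 3, 3, 1, 2, 2],
  [0, 0, 1, 1],
  [6, 7],
  [7, 6],
  [2, 2, 1, 3, 1, 2, 2, 5, 0, 4, 1, 5, 6, 5, 2, 2, 1, 4, 2, 3, 5, 0, 3, 3, 4, 7, 4, 0, 5, 1, 4, 3, 3, 0, 2, 0, 3, 3],
  [0, 2, 1, 2, 2, 1, 2, 2, 5, 0, 4, 2, 4, 3, 6, 4, 3, 3, 6, 4, 2, 4, 5, 3, 5, 7, 2, 2, 5, 7, 2, 5, 3, 5, 1, 4, 3, 3, 0, 3, 3, 0, 3, 1],
  [5, 7, 1, 5, 1, 2, 5, 7, 6, 4, 3, 0, 4, 0, 6, 4],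
  [2, 6, 7, 3],
  [7, 3, 2, 6],
  [1, 3, 1, 2, 5, 3, 0, 5, 2, 0, 1, 3, 4, 1, 2, 4, 3, 0, 2, 0],
  [3, 3, 0, 4, 1, 2, 4, 2, 3, 5, 3, 0, 5, 1, 2, 2],
  [1, 3, 1, 4, 0, 2, 0, 1, 3, 1, 5, 0, 2, 0],
  [3, 1, 2, 4, 3, 0, 2, 3, 1, 2, 5, 3, 0, 2],
  [2, 2, 1, 3, 4, 2, 0, 4, 3, 3, 5, 4, 2, 2, 5, 1, 3, 5, 2, 0, 3, 3],
  [1, 1, 1, 0, 0, 0],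
  [2, 1, 3, 1, 1, 0, 0, 2, 0, 3],
  [0, 2, 2, 0, 3, 3, 1, 0, 2, 2, 1, 3, 3, 1],
  [1, 6, 3, 5, 1, 2, 5, 7, 2, 5, 3, 1, 5, 0, 3, 0, 2, 0, 3, 2, 1, 3, 1, 2, 1, 4, 0, 2, 4, 3, 6, 4, 3, 0, 4, 2, 7, 0],
  [0, 3, 3, 1, 4, 2, 5, 2, 1, 5, 5, 6, 4, 0, 4, 1, 4, 3, 7, 6, 2, 5, 0, 5, 1, 5, 7, 4, 4, 0, 3, 4, 3, 5, 0, 2, 2, 1],
  [2, 0, 3, 1, 3, 3, 1, 3, 4, 2, 2, 4, 2, 6, 4, 3, 3, 6, 4, 2, 4, 5, 3, 5, 7, 2, 2, 5, 7, 3, 5, 3, 3, 5, 2, 0, 2, 2, 0, 2, 1, 3],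
  [5, 3, 5, 7, 2, 2, 5, 7, 3, 5, 3, 3, 5, 2, 0, 2, 2, 0, 2, 1, 3, 2, 0, 3, 1, 3, 3, 1, 3, 4, 2, 2, 4, 2, 6, 4, 3, 3, 6, 4, 2, 4],
  [1, 5, 7, 0, 5, 3, 0, 5, 7, 1, 5, 0, 4, 3, 3, 5, 3, 1, 3, 3, 2, 2, 0, 2, 4, 2, 2, 5, 1, 4, 0, 6, 4, 1, 2, 4, 1, 6, 4, 0],
  [1, 5, 7, 2, 1, 3, 5, 7, 2, 1, 3, 5, 3, 0, 3, 3, 0, 3, 2, 1, 2, 2, 1, 2, 4, 2, 0, 3, 6, 4, 2, 0, 3, 6, 4, 0],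
  [7, 0, 4, 2, 4, 1, 5, 7, 0, 3, 1, 4, 1, 3, 3, 1, 2, 1, 0, 3, 0, 2, 2, 0, 5, 0, 2, 1, 6, 4, 0, 5, 3, 5, 1, 6],
  [5, 1, 4, 2, 5, 7, 4, 1, 4, 0, 4, 3, 1, 3, 1, 2, 3, 0, 2, 0, 2, 5, 1, 5, 0, 5, 6, 4, 3, 5, 0, 4],
  [9, 4, 8, 1, 3, 4, 1, 2, 4, 3, 0, 2, 0],
  [9, 1, 4, 0, 8, 3, 5, 3, 0, 5, 1, 2, 2],
  [9, 3, 4, 2, 8, 1, 3, 1, 5, 0, 2, 0],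
  [9, 2, 4, 3, 8, 3, 1, 2, 5, 3, 0, 2],
  [9, 5, 1, 5, 0, 4, 1, 4, 0, 8, 4, 2, 2, 5, 1, 3, 5, 2, 0, 3, 3],
  [9, 0, 8, 0, 0, 0],
  [9, 2, 0, 3, 8, 0, 0, 2, 0, 3],
  [9, 2, 2, 0, 3, 3, 8, 0, 2, 2, 1, 3, 3, 1],
  [8, 8, 1, 1],
  [3, 3, 0, 2, 2, 8, 3, 3, 0, 2, 2, 8, 3, 3, 0, 2, 2, 8, 0, 0],
  [5, 7, 1, 5, 1, 2, 5, 7, 8, 1, 6, 3, 5, 1, 2, 5, 7, 2, 5, 3, 1, 5, 0, 3, 0, 2, 0, 3, 8, 1, 5, 7, 0, 5, 3, 0, 5, 7, 1, 5, 0, 4, 3, 3, 5, 3, 1, 3, 3, 8],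
  [9, 7, 9, 1, 5, 7, 2, 1, 3, 5, 7, 2, 1, 3, 5, 3, 0, 3, 3, 0, 3, 8, 6, 8, 0, 2, 1, 2, 2, 1, 2, 2, 5, 0, 4, 2, 4, 3, 6, 4, 3, 3, 6, 4, 2, 4],
  [8, 2, 0, 3, 1, 3, 3, 1, 3, 4, 2, 2, 4, 2, 6, 4, 3, 3, 6, 4, 2, 4, 8, 0, 3, 3, 1, 4, 2, 5, 2, 1, 5, 5, 6, 4, 0, 4, 1, 4, 3, 7, 9, 5, 3, 5, 7, 2, 2, 5, 7, 3, 5, 3, 3, 5, 2, 0, 2, 2, 0, 2, 1, 3, 9, 7, 0, 4, 2, 4, 1, 5, 7, 0, 3, 1, 4, 1, 3, 3, 1, 2, 1],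
  [8, 2, 6, 8, 2, 2, 1, 3, 1, 2, 2, 5, 0, 4, 1, 5, 6, 5, 2, 2, 1, 4, 2, 9, 7, 3, 9, 5, 1, 4, 2, 5, 7, 4, 1, 4, 0, 4, 3, 1, 3, 1, 2]]

/-- The relators in four letters, freely reduced. -/
def wordsFour : List (List ℕ) := [
  [0, 0, 0, 0, 0, 0, 0, 0],
  [2, 2, 2, 2, 2],
  [0, 2, 0, 2, 0, 2, 0, 2],
  [1, 1, 3, 0, 0, 2],
  [1, 3, 0, 2, 1, 3, 0, 2, 1, 3, 0, 2],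
  [4, 4, 4, 4, 4],
  [5, 1, 5, 0, 4, 1, 4, 0, 5, 1, 5, 0, 4, 1, 4, 0, 5, 1, 5, 0, 4, 1, 4, 0, 5, 1, 5, 0, 4, 1, 4, 0, 5, 1, 5, 0, 4, 1, 4, 0],
  [5, 1, 5, 0, 5, 1, 4, 0, 4, 1, 5, 0, 4, 1, 4, 0],
  [1, 5, 5, 0, 5, 1, 4, 0, 4, 1, 4, 0, 5, 1, 5, 0, 4, 1, 4, 0],
  [3, 5, 2, 1, 5, 0, 5, 1, 4, 0, 4, 3, 4, 2, 5, 1, 5, 0, 4, 1, 4, 0],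
  [2, 5, 3, 1, 5, 0, 5, 1, 4, 0, 4, 2, 4, 3, 5, 1, 5, 0, 4, 1, 4, 0],
  [5, 3, 5, 2, 4, 3, 4, 2, 5, 1, 5, 0, 4, 1, 4, 0, 5, 1, 5, 0, 4, 1, 4, 0],
  [5, 2, 5, 3, 4, 2, 4, 3, 1, 5, 0, 5, 1, 4, 0, 4, 1, 5, 0, 5, 1, 4, 0, 4],
  [1, 5, 0, 3, 5, 2, 1, 4, 0, 3, 4, 2, 5, 1, 5, 0, 4, 1, 4, 0],
  [1, 5, 0, 2, 5, 3, 1, 4, 0, 2, 4, 3],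
  [3, 5, 2, 2, 5, 3, 3, 4, 2, 2, 4, 3, 5, 1, 5, 0, 4, 1, 4, 0],
  [1, 1, 4, 0, 0, 4, 4],
  [1, 3, 4, 2, 0, 2, 5, 3, 5, 3, 4, 4, 2],
  [1, 2, 4, 3, 0, 2, 5, 3, 5, 2, 5, 3, 3, 4, 2, 1, 4, 0, 5],
  [1, 5, 1, 5, 0, 4, 1, 4, 0, 5, 0, 5, 1, 4, 0, 4, 1, 5, 0, 5, 1, 4, 0, 4],
  [3, 1, 4, 0, 2, 2, 4, 3, 4, 2, 4, 3, 3, 5, 2, 1, 5, 0],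
  [3, 3, 4, 2, 4, 4, 2, 2, 5, 3, 5, 5],
  [3, 5, 1, 5, 0, 4, 1, 4, 0, 2, 1, 5, 0, 5, 1, 4, 0, 4],
  [3, 3, 1, 5, 0, 4, 1, 4, 0, 6, 4, 2, 0, 3, 6, 4, 6, 3, 3, 1, 5, 0, 4, 1, 4, 0, 6, 4, 2, 0, 3, 6, 4, 6],
  [7, 5, 7, 2, 1, 3, 5, 7, 1, 5, 0, 5, 1, 4, 0, 2, 2, 4, 3, 3, 1, 5, 0, 4, 1, 4, 0, 6, 4, 2, 0, 3, 6, 4, 6, 4, 3, 3, 5],
  [7, 5, 7, 2, 1, 3, 5, 7, 1, 5, 0, 5, 1, 4, 0, 2, 4, 3, 1, 5, 0, 4, 1, 4, 0, 6, 4, 2, 0, 3, 6, 4, 6, 0, 2, 4, 3, 4, 1, 5, 3, 3],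
  [7, 5, 7, 2, 1, 3, 5, 7, 1, 5, 0, 5, 1, 4, 0, 2, 2, 2, 4, 3, 3, 3, 1, 5, 0, 4, 1, 4, 0, 6, 4, 2, 0, 3, 6, 4, 6, 2, 5, 3, 3, 4, 3],
  [7, 5, 7, 2, 1, 3, 5, 7, 1, 5, 0, 5, 1, 4, 0, 2, 2, 5, 1, 5, 0, 4, 1, 4, 0, 3, 3, 1, 5, 0, 4, 1, 4, 0, 6, 4, 2, 0, 3, 6, 4, 6, 2, 4, 3, 5, 3, 4, 2, 5],
  [3, 3, 1, 5, 0, 4, 1, 4, 0, 6, 4, 2, 0, 3, 6, 4, 6, 0, 0, 3, 3, 1, 5, 0, 4, 1, 4, 0, 6, 4, 2, 0, 3, 6, 4, 6, 2, 4, 3, 1, 5, 0, 5, 1, 4, 2, 1, 3, 3, 1],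
  [7, 5, 7, 2, 1, 3, 5, 7, 1, 5, 0, 5, 1, 4, 0, 2, 1, 5, 0, 4, 1, 4, 0, 6, 4, 2, 0, 3, 6, 4, 6, 2, 4, 4, 3, 3, 4, 2, 5],
  [3, 3, 1, 5, 0, 4, 1, 4, 0, 6, 4, 2, 0, 3, 6, 4, 6, 0, 2, 2, 0, 3, 0, 3, 3, 1, 5, 0, 4, 1, 4, 0, 6, 4, 2, 0, 3, 6, 4, 6, 2, 4, 3, 1, 5, 0, 5, 1, 4, 1],
  [3, 3, 1, 5, 0, 4, 1, 4, 0, 6, 4, 2, 0, 3, 6, 4, 6, 1, 4, 0, 3, 3, 1, 5, 0, 4, 1, 4, 0, 6, 4, 2, 0, 3, 6, 4, 6, 1, 5, 0, 3, 3, 1, 5, 0, 4, 1, 4, 0, 6, 4, 2, 0, 3, 6, 4, 6, 1, 4, 0, 2, 5, 3, 0, 3, 4, 2, 0, 0, 0],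
  [5, 7, 2, 1, 3, 5, 7, 1, 5, 0, 5, 1, 4, 0, 2, 1, 4, 7, 5, 7, 2, 1, 3, 5, 7, 1, 5, 0, 5, 1, 4, 0, 2, 2, 1, 7, 5, 7, 2, 1, 3, 5, 7, 1, 5, 0, 5, 1, 4, 0, 2, 2, 1, 5, 1, 5, 0, 4, 1, 4, 0, 2, 4, 3, 4, 2, 0, 3, 3, 1],
  [6, 6, 1, 1, 1, 1],
  [3, 7, 2, 6],
  [7, 0, 6, 1, 1, 1],
  [6, 5, 1, 5, 0, 4, 1, 4, 0, 6, 5, 1, 5, 0, 4, 1, 4, 0, 6, 5, 1, 5, 0, 4, 1, 4, 0, 6, 5, 1, 5, 0, 4, 1, 4, 0, 6, 5, 1, 5, 0, 4, 1, 4, 0],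
  [6, 5, 1, 5, 0, 4, 1, 4, 0, 6, 1, 5, 0, 5, 1, 4, 0, 4, 6, 5, 1, 5, 0, 4, 1, 4, 1]]

end CfsgLib.Sporadic.LyGroup
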