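import Cfsg.Agent.Lib.Sporadic.LyGroup.Data
import Cfsg.Agent.Lib.Sporadic.PairEnum.Sound

/-!
# Five letters generate the presented Lyons group; maps out of it (owner: helper25)
-/

set_option autoImplicit false
set_option maxRecDepth 20000

namespace CfsgLib.Sporadic.LyGroup

open Cfsg
open CfsgLib.Sporadic.PairEnum (flp winv prod_winv)

theorem flp_flp (k : ℕ) : flp (flp k) = k := by
  show (k ^^^ 1) ^^^ 1 = k
  rw [Nat.xor_assoc, Nat.xor_self, Nat.xor_zero]

/-- Substituting the words of the generators. -/
def sub (p : Spor.Ly.Gen × Bool) : List ℕ :=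
  cond p.2 (defW p.1) ((defW p.1).reverse.map fun x => x ^^^ 1)

/-- Free reduction. -/
def pushL (a : ℕ) : List ℕ → List ℕ
  | [] => [a]
  | b :: t => if b = a ^^^ 1 then t else a :: b :: t

/-- The freely reduced form of a word. -/
def red (w : List ℕ) : List ℕ := w.foldr pushL []

theorem relWords_eq : Spor.Ly.extra.map (fun r => r.toWord.flatMap sub) = relWords := by decide +kernel

theorem wordsFour_ok : wordsFour.all (fun w => (relWords.map red).contains w) = true := by decide +kernel

variable {H : Type*} [Group H]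

theorem prod_pushL {u : ℕ → H} (hu : ∀ x, u (flp x) = (u x)⁻¹) (a : ℕ) :
    ∀ w : List ℕ, ((pushL a w).map u).prod = u a * (w.map u).prod
  | [] => by simp [pushL]
  | b :: t => by
    rw [pushL]
    split_ifs with h
    · subst h
      rw [List.map_cons, List.prod_cons, show a ^^^ 1 = flp a from rfl, hu, mul_inv_cancel_left]
    · rfl

theorem prod_red {u : ℕ → H} (hu : ∀ x, u (flp x) = (u x)⁻¹) :
    ∀ w : List ℕ, ((red w).map u).prod = (w.map u).prod
  | [] => rfl
  | a :: w => by
    show ((pushL a (red w)).map u).prod = _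
    rw [prod_pushL hu, prod_red hu w, List.map_cons, List.prod_cons]

theorem prod_sub {u : ℕ → H} (hu : ∀ x, u (flp x) = (u x)⁻¹) (p : Spor.Ly.Gen × Bool) :
    ((sub p).map u).prod = cond p.2 ((defW p.1).map u).prod ((defW p.1).map u).prod⁻¹ := by
  obtain ⟨g, e⟩ := p
  cases e
  · exact prod_winv hu _
  · rfl

theorem lift_eq_prod {u : ℕ → H} (hu : ∀ x, u (flp x) = (u x)⁻¹) (r : FreeGroup Spor.Ly.Gen) :
    FreeGroup.lift (fun g => ((defW g).map u).prod) r = ((r.toWord.flatMap sub).map u).prod := by
  conv_lhs => rw [← FreeGroup.mk_toWord (x := r)]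
  induction r.toWord with
  | nil => simp [← FreeGroup.one_eq_mk]
  | cons p L ih =>
    rw [show FreeGroup.mk (p :: L) = FreeGroup.mk [p] * FreeGroup.mk L from rfl, map_mul, ih,
      List.flatMap_cons, List.map_append, List.prod_append]
    congr 1
    rw [prod_sub hu]
    obtain ⟨g, e⟩ := p
    cases e
    · rw [show FreeGroup.mk [(g, false)] = (FreeGroup.of g)⁻¹ from rfl, map_inv, FreeGroup.lift_apply_of]; rfl
    · exact FreeGroup.lift_apply_of

/-- A map out of the presented group from five letters satisfying the relators. -/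
noncomputable def lift (u : ℕ → H) (hu : ∀ x, u (flp x) = (u x)⁻¹)
    (hr : ∀ w ∈ relWords, (w.map u).prod = 1) : Spor.Ly →* H :=
  PresentedGroup.toGroup (f := fun g => ((defW g).map u).prod) (by
    intro r hr'
    rcases hr' with ⟨x, hx, -⟩ | hr'
    · simp [Spor.coxNodes, Spor.Ly.edges] at hx
    rw [lift_eq_prod hu]
    exact hr _ (relWords_eq ▸ List.mem_map.2 ⟨r, hr', rfl⟩))

theorem lift_of (u : ℕ → H) (hu : ∀ x, u (flp x) = (u x)⁻¹) (hr : ∀ w ∈ relWords, (w.map u).prod = 1)
    (g : Spor.Ly.Gen) : lift u hu hr (PresentedGroup.of g) = ((defW g).map u).prod :=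
  PresentedGroup.toGroup.of _

/-- The five generators by number. -/
def five : ℕ → Option Spor.Ly.Gen
  | 0 => some .a
  | 1 => some .b
  | 2 => some .c
  | 3 => some .d
  | 4 => some .z
  | _ => none

/-- A letter in the presented group. -/
noncomputable def gl (k : ℕ) : Spor.Ly :=
  match five (k / 2) with
  | none => 1
  | some g => if k % 2 = 0 then PresentedGroup.of g else (PresentedGroup.of g)⁻¹

theorem gl_flp (k : ℕ) : gl (flp k) = (gl k)⁻¹ := by
  have hd : (k ^^^ 1) / 2 = k / 2 := by
    rw [← Nat.shiftRight_one, Nat.shiftRight_xor_distrib, Nat.shiftRight_one]; simp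
  have hm : (k ^^^ 1) % 2 = 1 - k % 2 := by
    have := Nat.xor_mod_two_eq_one (a := k) (b := 1)
    omega
  show gl (k ^^^ 1) = _
  unfold gl
  rw [hd, hm]
  cases five (k / 2) with
  | none => simp
  | some g => rcases Nat.mod_two_eq_zero_or_one k with hk | hk <;> simp [hk]

/-- A generator or its inverse in the presented group. -/
noncomputable def gen1 (p : Spor.Ly.Gen × Bool) : Spor.Ly :=
  cond p.2 (PresentedGroup.of p.1) (PresentedGroup.of p.1)⁻¹

theorem rel_gen1 {r : FreeGroup Spor.Ly.Gen} (hr : r ∈ Spor.Ly.extra) : (r.toWord.map gen1).prod = 1 := by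
  have h : PresentedGroup.mk (Spor.coxRelators Spor.Ly.edges ∪ {s | s ∈ Spor.Ly.extra}) r = 1 :=
    PresentedGroup.one_of_mem (Or.inr hr)
  rw [← h]
  conv_rhs => rw [← FreeGroup.mk_toWord (x := r)]
  induction r.toWord with
  | nil => simp [← FreeGroup.one_eq_mk]
  | cons p L ih =>
    rw [show FreeGroup.mk (p :: L) = FreeGroup.mk [p] * FreeGroup.mk L from rfl, map_mul, ← ih, List.map_cons,
      List.prod_cons]
    congr 1
    obtain ⟨g, e⟩ := p
    cases e
    · rw [show FreeGroup.mk [(g, false)] = (FreeGroup.of g)⁻¹ from rfl, map_inv]; rfl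
    · rfl

/-- What has to be checked for the defining relators, taken in order. -/
def defsOK : List Spor.Ly.Gen → List (Spor.Ly.Gen × ℕ) → Bool
  | known, [] => decide (known.length = 39)
  | known, (g, n) :: t =>
    (match (Spor.Ly.extra.getD n 1).toWord with
      | [] => false
      | p :: rest => decide (p = (g, true)) && decide (n < Spor.Ly.extra.length) &&
          rest.all (fun q => decide (q.1 ∈ known)) && decide (red (defW g ++ rest.flatMap sub) = []) &&
          defsOK (g :: known) t)

theorem defsOK_sound : ∀ {t : List (Spor.Ly.Gen × ℕ)} {known : List Spor.Ly.Gen},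
    (∀ g ∈ known, (PresentedGroup.of g : Spor.Ly) = ((defW g).map gl).prod) → defsOK known t = true →
    ∀ g ∈ t.map Prod.fst, (PresentedGroup.of g : Spor.Ly) = ((defW g).map gl).prod
  | [], _, _, _ => by simp
  | (g, n) :: t, known, hk, h => by
    rw [defsOK] at h
    split at h
    · simp at h
    · rename_i p rest hw
      simp only [Bool.and_eq_true, decide_eq_true_eq, List.all_eq_true] at h
      obtain ⟨⟨⟨⟨rfl, hn⟩, hrest⟩, hred⟩, ht⟩ := h
      have h1 := rel_gen1 (r := Spor.Ly.extra.getD n 1) (by
        rw [List.getD_eq_getElem _ _ hn]; exact List.getElem_mem hn)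
      rw [hw, List.map_cons, List.prod_cons] at h1
      have h2 : (rest.map gen1).prod = ((rest.flatMap sub).map gl).prod := by
        clear h1 hred hw
        induction rest with
        | nil => rfl
        | cons q rest ih =>
          rw [List.map_cons, List.prod_cons, List.flatMap_cons, List.map_append, List.prod_append,
            ih fun x hx => hrest x (List.mem_cons_of_mem _ hx), prod_sub gl_flp, gen1,
            hk _ (hrest q List.mem_cons_self)]
      have h3 : ((defW g).map gl).prod * ((rest.flatMap sub).map gl).prod = 1 := by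
        rw [← List.prod_append, ← List.map_append, ← prod_red gl_flp, hred]; rfl
      rw [h2] at h1
      have hg : (PresentedGroup.of g : Spor.Ly) = ((defW g).map gl).prod :=
        mul_right_cancel (h1.trans h3.symm)
      intro x hx
      simp only [List.map_cons, List.mem_cons] at hx
      rcases hx with rfl | hx
      · exact hg
      · exact defsOK_sound (known := g :: known)
          (fun y hy => (List.mem_cons.1 hy).elim (fun e => e ▸ hg) (hk y)) ht x hx

theorem defs_check : defsOK [.a, .b, .c, .d, .z] defRels = true := by decide +kernel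

theorem of_eq_word : ∀ g : Spor.Ly.Gen, (PresentedGroup.of g : Spor.Ly) = ((defW g).map gl).prod := by
  have h0 : ∀ g ∈ ([.a, .b, .c, .d, .z] : List Spor.Ly.Gen),
      (PresentedGroup.of g : Spor.Ly) = ((defW g).map gl).prod := by
    intro g hg
    simp only [List.mem_cons, List.not_mem_nil, or_false] at hg
    rcases hg with rfl | rfl | rfl | rfl | rfl <;> simp [defW, gl, five]
  intro g
  by_cases h : g ∈ ([.a, .b, .c, .d, .z] : List Spor.Ly.Gen)
  · exact h0 g h
  · refine defsOK_sound h0 defs_check g ?_
    cases g <;> first | decide | exact absurd (by decide) h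

theorem gl_rel {w : List ℕ} (hw : w ∈ relWords) : (w.map gl).prod = 1 := by
  rw [← relWords_eq, List.mem_map] at hw
  obtain ⟨r, hr, rfl⟩ := hw
  rw [← rel_gen1 hr]
  induction r.toWord with
  | nil => rfl
  | cons p L ih =>
    rw [List.flatMap_cons, List.map_append, List.prod_append, List.map_cons, List.prod_cons, ih, prod_sub gl_flp,
      gen1, of_eq_word]

theorem gl_wordsFour {w : List ℕ} (hw : w ∈ wordsFour) : (w.map gl).prod = 1 := by
  have h := List.all_eq_true.1 wordsFour_ok w hw
  rw [List.contains_iff_mem, List.mem_map] at h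
  obtain ⟨v, hv, rfl⟩ := h
  rw [prod_red gl_flp, gl_rel hv]

theorem gl_closure : Subgroup.closure {g | ∃ k ∈ ([0, 2, 4, 6, 8] : List ℕ), g = gl k} = ⊤ := by
  rw [eq_top_iff, ← PresentedGroup.closure_range_of _, Subgroup.closure_le]
  rintro _ ⟨g, rfl⟩
  rw [of_eq_word]
  refine Subgroup.list_prod_mem _ fun x hx => ?_
  obtain ⟨k, -, rfl⟩ := List.mem_map.1 hx
  have hk : gl k = 1 ∨ gl k = gl (2 * (k / 2)) ∨ gl k = (gl (2 * (k / 2)))⁻¹ := by
    rcases Nat.mod_two_eq_zero_or_one k with h | h
    · right; left; congr 1; omega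
    · right; right
      rw [← gl_flp]
      congr 1
      show k = (2 * (k / 2)) ^^^ 1
      have h1 : ((2 * (k / 2)) ^^^ 1) / 2 = k / 2 := by
        rw [← Nat.shiftRight_one, Nat.shiftRight_xor_distrib, Nat.shiftRight_one]
        simp
      have h2 := Nat.xor_mod_two_eq_one (a := 2 * (k / 2)) (b := 1)
      omega
  have hmem : gl (2 * (k / 2)) ∈ Subgroup.closure {g | ∃ k ∈ ([0, 2, 4, 6, 8] : List ℕ), g = gl k} := by
    by_cases h : k / 2 < 5
    · refine Subgroup.subset_closure ⟨_, ?_, rfl⟩
      have : k / 2 = 0 ∨ k / 2 = 1 ∨ k / 2 = 2 ∨ k / 2 = 3 ∨ k / 2 = 4 := by omega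
      rcases this with e | e | e | e | e <;> rw [e] <;> decide
    · have e : gl (2 * (k / 2)) = 1 := by
        have : five (k / 2) = none := by
          match hq : k / 2 with
          | 0 | 1 | 2 | 3 | 4 => omega
          | _ + 5 => rfl
        simp [gl, this]
      rw [e]; exact one_mem _
  rcases hk with e | e | e <;> rw [e]
  · exact one_mem _
  · exact hmem
  · exact inv_mem hmem

end CfsgLib.Sporadic.LyGroup
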